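import Cfsg.Agent.Lib.ToddCox.O73C1.Data0
set_option autoImplicit false
set_option maxRecDepth 100000
namespace Cfsg.Agent.Lib.ToddCox.O73C1
def eT_0_2 (j : ℕ) : ℕ := bif Nat.blt j 1 then E_0 else E_1
def eT_3_5 (j : ℕ) : ℕ := bif Nat.blt j 4 then E_3 else E_4
def eT_2_5 (j : ℕ) : ℕ := bif Nat.blt j 3 then E_2 else (eT_3_5 j)
def eT_0_5 (j : ℕ) : ℕ := bif Nat.blt j 2 then (eT_0_2 j) else (eT_2_5 j)
def eT_6_8 (j : ℕ) : ℕ := bif Nat.blt j 7 then E_6 else E_7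
def eT_5_8 (j : ℕ) : ℕ := bif Nat.blt j 6 then E_5 else (eT_6_8 j)
def eT_9_11 (j : ℕ) : ℕ := bif Nat.blt j 10 then E_9 else E_10
def eT_8_11 (j : ℕ) : ℕ := bif Nat.blt j 9 then E_8 else (eT_9_11 j)
def eT_5_11 (j : ℕ) : ℕ := bif Nat.blt j 8 then (eT_5_8 j) else (eT_8_11 j)
def eT_0_11 (j : ℕ) : ℕ := bif Nat.blt j 5 then (eT_0_5 j) else (eT_5_11 j)
def eT_11_13 (j : ℕ) : ℕ := bif Nat.blt j 12 then E_11 else E_12
def eT_14_16 (j : ℕ) : ℕ := bif Nat.blt j 15 then E_14 else E_15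
def eT_13_16 (j : ℕ) : ℕ := bif Nat.blt j 14 then E_13 else (eT_14_16 j)
def eT_11_16 (j : ℕ) : ℕ := bif Nat.blt j 13 then (eT_11_13 j) else (eT_13_16 j)
def eT_17_19 (j : ℕ) : ℕ := bif Nat.blt j 18 then E_17 else E_18
def eT_16_19 (j : ℕ) : ℕ := bif Nat.blt j 17 then E_16 else (eT_17_19 j)
def eT_20_22 (j : ℕ) : ℕ := bif Nat.blt j 21 then E_20 else E_21
def eT_19_22 (j : ℕ) : ℕ := bif Nat.blt j 20 then E_19 else (eT_20_22 j)
def eT_16_22 (j : ℕ) : ℕ := bif Nat.blt j 19 then (eT_16_19 j) else (eT_19_22 j)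
def eT_11_22 (j : ℕ) : ℕ := bif Nat.blt j 16 then (eT_11_16 j) else (eT_16_22 j)
def eT_0_22 (j : ℕ) : ℕ := bif Nat.blt j 11 then (eT_0_11 j) else (eT_11_22 j)
def eT (j : ℕ) : ℕ := (eT_0_22 j)
noncomputable def chunkF (h : ℕ) : ℕ := Nat.rec (motive := fun _ => ℕ) (eT 0) (fun n _ => eT (Nat.succ n)) h
noncomputable def Eo (r : ℕ) : ℕ := Nat.land (Nat.shiftRight (chunkF (Nat.shiftRight r 8)) (Nat.mul (Nat.land r 255) 54)) 18014398509481983
def invT : ℕ := 0xffef7cefae78df6d74cf2c70beeb6caeaa689e69648e28607de75c6da6585d65544d24503ce34c2ca2481c61440c2040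
def inv (y : ℕ) : ℕ := invOf invT y
def Wt_0_2 (j : ℕ) : List ℕ := bif Nat.blt j 1 then [nat_lit 0, nat_lit 6, nat_lit 0, nat_lit 6] else [nat_lit 1, nat_lit 6, nat_lit 1, nat_lit 6]
def Wt_2_4 (j : ℕ) : List ℕ := bif Nat.blt j 3 then [nat_lit 2, nat_lit 6, nat_lit 2, nat_lit 6] else [nat_lit 3, nat_lit 6, nat_lit 3, nat_lit 6]
def Wt_0_4 (j : ℕ) : List ℕ := bif Nat.blt j 2 then (Wt_0_2 j) else (Wt_2_4 j)
def Wt_4_6 (j : ℕ) : List ℕ := bif Nat.blt j 5 then [nat_lit 4, nat_lit 6, nat_lit 4, nat_lit 6] else [nat_lit 1, nat_lit 5, nat_lit 1, nat_lit 5]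
def Wt_6_8 (j : ℕ) : List ℕ := bif Nat.blt j 7 then [nat_lit 2, nat_lit 5, nat_lit 2, nat_lit 5] else [nat_lit 3, nat_lit 5, nat_lit 3, nat_lit 5]
def Wt_4_8 (j : ℕ) : List ℕ := bif Nat.blt j 6 then (Wt_4_6 j) else (Wt_6_8 j)
def Wt_0_8 (j : ℕ) : List ℕ := bif Nat.blt j 4 then (Wt_0_4 j) else (Wt_4_8 j)
def Wt_8_10 (j : ℕ) : List ℕ := bif Nat.blt j 9 then [nat_lit 4, nat_lit 5, nat_lit 4, nat_lit 5] else [nat_lit 6, nat_lit 5, nat_lit 6, nat_lit 5, nat_lit 6, nat_lit 5]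
def Wt_10_12 (j : ℕ) : List ℕ := bif Nat.blt j 11 then [nat_lit 2, nat_lit 0, nat_lit 2, nat_lit 0] else [nat_lit 4, nat_lit 0, nat_lit 4, nat_lit 0]
def Wt_8_12 (j : ℕ) : List ℕ := bif Nat.blt j 10 then (Wt_8_10 j) else (Wt_10_12 j)
def Wt_12_14 (j : ℕ) : List ℕ := bif Nat.blt j 13 then [nat_lit 5, nat_lit 0, nat_lit 5, nat_lit 0, nat_lit 5, nat_lit 0] else [nat_lit 6, nat_lit 0, nat_lit 6, nat_lit 0]
def Wt_15_17 (j : ℕ) : List ℕ := bif Nat.blt j 16 then [nat_lit 4, nat_lit 1, nat_lit 4, nat_lit 1] else [nat_lit 5, nat_lit 1, nat_lit 5, nat_lit 1]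
def Wt_14_17 (j : ℕ) : List ℕ := bif Nat.blt j 15 then [nat_lit 0, nat_lit 1, nat_lit 0, nat_lit 1, nat_lit 0, nat_lit 1] else (Wt_15_17 j)
def Wt_12_17 (j : ℕ) : List ℕ := bif Nat.blt j 14 then (Wt_12_14 j) else (Wt_14_17 j)
def Wt_8_17 (j : ℕ) : List ℕ := bif Nat.blt j 12 then (Wt_8_12 j) else (Wt_12_17 j)
def Wt_0_17 (j : ℕ) : List ℕ := bif Nat.blt j 8 then (Wt_0_8 j) else (Wt_8_17 j)
def Wt_17_19 (j : ℕ) : List ℕ := bif Nat.blt j 18 then [nat_lit 6, nat_lit 1, nat_lit 6, nat_lit 1] else [nat_lit 0, nat_lit 3, nat_lit 0, nat_lit 3, nat_lit 0, nat_lit 3]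
def Wt_19_21 (j : ℕ) : List ℕ := bif Nat.blt j 20 then [nat_lit 2, nat_lit 3, nat_lit 2, nat_lit 3] else [nat_lit 5, nat_lit 3, nat_lit 5, nat_lit 3]
def Wt_17_21 (j : ℕ) : List ℕ := bif Nat.blt j 19 then (Wt_17_19 j) else (Wt_19_21 j)
def Wt_21_23 (j : ℕ) : List ℕ := bif Nat.blt j 22 then [nat_lit 6, nat_lit 3, nat_lit 6, nat_lit 3] else [nat_lit 0, nat_lit 2, nat_lit 0, nat_lit 2]
def Wt_23_25 (j : ℕ) : List ℕ := bif Nat.blt j 24 then [nat_lit 1, nat_lit 2, nat_lit 1, nat_lit 2, nat_lit 1, nat_lit 2] else [nat_lit 4, nat_lit 2, nat_lit 4, nat_lit 2]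
def Wt_21_25 (j : ℕ) : List ℕ := bif Nat.blt j 23 then (Wt_21_23 j) else (Wt_23_25 j)
def Wt_17_25 (j : ℕ) : List ℕ := bif Nat.blt j 21 then (Wt_17_21 j) else (Wt_21_25 j)
def Wt_25_27 (j : ℕ) : List ℕ := bif Nat.blt j 26 then [nat_lit 5, nat_lit 2, nat_lit 5, nat_lit 2] else [nat_lit 6, nat_lit 2, nat_lit 6, nat_lit 2]
def Wt_27_29 (j : ℕ) : List ℕ := bif Nat.blt j 28 then [nat_lit 1, nat_lit 3, nat_lit 1, nat_lit 3] else [nat_lit 0, nat_lit 4, nat_lit 0, nat_lit 4]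
def Wt_25_29 (j : ℕ) : List ℕ := bif Nat.blt j 27 then (Wt_25_27 j) else (Wt_27_29 j)
def Wt_29_31 (j : ℕ) : List ℕ := bif Nat.blt j 30 then [nat_lit 2, nat_lit 4, nat_lit 2, nat_lit 4] else [nat_lit 3, nat_lit 4, nat_lit 3, nat_lit 4, nat_lit 3, nat_lit 4]
def Wt_32_34 (j : ℕ) : List ℕ := bif Nat.blt j 33 then [nat_lit 6, nat_lit 4, nat_lit 6, nat_lit 4] else [nat_lit 1, nat_lit 0, nat_lit 1, nat_lit 0, nat_lit 1, nat_lit 0]
def Wt_31_34 (j : ℕ) : List ℕ := bif Nat.blt j 32 then [nat_lit 5, nat_lit 4, nat_lit 5, nat_lit 4] else (Wt_32_34 j)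
def Wt_29_34 (j : ℕ) : List ℕ := bif Nat.blt j 31 then (Wt_29_31 j) else (Wt_31_34 j)
def Wt_25_34 (j : ℕ) : List ℕ := bif Nat.blt j 29 then (Wt_25_29 j) else (Wt_29_34 j)
def Wt_17_34 (j : ℕ) : List ℕ := bif Nat.blt j 25 then (Wt_17_25 j) else (Wt_25_34 j)
def Wt_0_34 (j : ℕ) : List ℕ := bif Nat.blt j 17 then (Wt_0_17 j) else (Wt_17_34 j)
def Wt_34_36 (j : ℕ) : List ℕ := bif Nat.blt j 35 then [nat_lit 3, nat_lit 0, nat_lit 3, nat_lit 0, nat_lit 3, nat_lit 0] else [nat_lit 1, nat_lit 4, nat_lit 1, nat_lit 4]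
def Wt_36_38 (j : ℕ) : List ℕ := bif Nat.blt j 37 then [nat_lit 0, nat_lit 5, nat_lit 0, nat_lit 5, nat_lit 0, nat_lit 5] else [nat_lit 2, nat_lit 1, nat_lit 2, nat_lit 1, nat_lit 2, nat_lit 1]
def Wt_34_38 (j : ℕ) : List ℕ := bif Nat.blt j 36 then (Wt_34_36 j) else (Wt_36_38 j)
def Wt_38_40 (j : ℕ) : List ℕ := bif Nat.blt j 39 then [nat_lit 3, nat_lit 1, nat_lit 3, nat_lit 1] else [nat_lit 4, nat_lit 3, nat_lit 4, nat_lit 3, nat_lit 4, nat_lit 3]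
def Wt_40_42 (j : ℕ) : List ℕ := bif Nat.blt j 41 then [nat_lit 5, nat_lit 6, nat_lit 5, nat_lit 6, nat_lit 5, nat_lit 6] else [nat_lit 3, nat_lit 2, nat_lit 3, nat_lit 2]
def Wt_38_42 (j : ℕ) : List ℕ := bif Nat.blt j 40 then (Wt_38_40 j) else (Wt_40_42 j)
def Wt_34_42 (j : ℕ) : List ℕ := bif Nat.blt j 38 then (Wt_34_38 j) else (Wt_38_42 j)
def Wt_42_44 (j : ℕ) : List ℕ := bif Nat.blt j 43 then [nat_lit 0, nat_lit 4, nat_lit 3, nat_lit 0, nat_lit 2, nat_lit 1, nat_lit 0, nat_lit 6, nat_lit 5, nat_lit 0, nat_lit 4, nat_lit 3, nat_lit 0, nat_lit 2, nat_lit 1, nat_lit 0, nat_lit 6, nat_lit 5, nat_lit 0, nat_lit 4, nat_lit 3, nat_lit 0, nat_lit 2, nat_lit 1, nat_lit 0, nat_lit 6, nat_lit 5, nat_lit 0, nat_lit 4, nat_lit 3, nat_lit 0, nat_lit 2, nat_lit 1, nat_lit 0, nat_lit 6, nat_lit 5, nat_lit 0, nat_lit 4, nat_lit 3, nat_lit 0, nat_lit 2, nat_lit 1, nat_lit 0, nat_lit 6, nat_lit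 5, nat_lit 0, nat_lit 4, nat_lit 3, nat_lit 0, nat_lit 2, nat_lit 1, nat_lit 0, nat_lit 6, nat_lit 5, nat_lit 0, nat_lit 4, nat_lit 3, nat_lit 0, nat_lit 2, nat_lit 1, nat_lit 0, nat_lit 6, nat_lit 5, nat_lit 0, nat_lit 4, nat_lit 3, nat_lit 0, nat_lit 2, nat_lit 1, nat_lit 0, nat_lit 6, nat_lit 5, nat_lit 0, nat_lit 4, nat_lit 3, nat_lit 0, nat_lit 2, nat_lit 1, nat_lit 0, nat_lit 6, nat_lit 5, nat_lit 0, nat_lit 4, nat_lit 3, nat_lit 0, nat_lit 2, nat_lit 1, nat_lit 0, nat_lit 6, nat_lit 5] else [nat_lit 63, nat_lit 5, nat_lit 0, nat_lit 4, nat_lit 3, nat_lit 0, nat_lit 2, nat_lit 1, nat_lit 0, nat_lit 6, nat_lit 5, nat_lit 0, nat_lit 4, nat_lit 3, nat_lit 0, nat_lit 2, nat_lit 1, nat_lit 0, nat_lit 6, nat_lit 5, nat_lit 0, nat_lit 4, nat_lit 3, nat_lit 0, nat_lit 2, nat_lit 1, nat_lit 0, nat_lit 6, nat_lit 5, nat_lit 0, nat_lit 4, nat_lit 3, nat_lit 0, nat_lit 2, nat_lit 1,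 nat_lit 0, nat_lit 6, nat_lit 5, nat_lit 0, nat_lit 4, nat_lit 3, nat_lit 0, nat_lit 2, nat_lit 1, nat_lit 0, nat_lit 6, nat_lit 5, nat_lit 0, nat_lit 4, nat_lit 3, nat_lit 0, nat_lit 2, nat_lit 1, nat_lit 0, nat_lit 6, nat_lit 5, nat_lit 0, nat_lit 4, nat_lit 3, nat_lit 0, nat_lit 2, nat_lit 1, nat_lit 0, nat_lit 6, nat_lit 5, nat_lit 0, nat_lit 4, nat_lit 3, nat_lit 0, nat_lit 2, nat_lit 1, nat_lit 0, nat_lit 6, nat_lit 5, nat_lit 0, nat_lit 4, nat_lit 3, nat_lit 0, nat_lit 2, nat_lit 1, nat_lit 0, nat_lit 6, nat_lit 5, nat_lit 0, nat_lit 4, nat_lit 3, nat_lit 0, nat_lit 2, nat_lit 1, nat_lit 0, nat_lit 6]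
def Wt_44_46 (j : ℕ) : List ℕ := bif Nat.blt j 45 then [nat_lit 63, nat_lit 1, nat_lit 63, nat_lit 1] else [nat_lit 63, nat_lit 2, nat_lit 63, nat_lit 2, nat_lit 63]
def Wt_42_46 (j : ℕ) : List ℕ := bif Nat.blt j 44 then (Wt_42_44 j) else (Wt_44_46 j)
def Wt_46_48 (j : ℕ) : List ℕ := bif Nat.blt j 47 then [nat_lit 63, nat_lit 0, nat_lit 63, nat_lit 0] else [nat_lit 63, nat_lit 2, nat_lit 63, nat_lit 2]
def Wt_49_51 (j : ℕ) : List ℕ := bif Nat.blt j 50 then [nat_lit 63, nat_lit 6, nat_lit 63, nat_lit 6] else [nat_lit 63, nat_lit 4, nat_lit 63, nat_lit 4]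
def Wt_48_51 (j : ℕ) : List ℕ := bif Nat.blt j 49 then [nat_lit 63, nat_lit 3, nat_lit 63, nat_lit 3] else (Wt_49_51 j)
def Wt_46_51 (j : ℕ) : List ℕ := bif Nat.blt j 48 then (Wt_46_48 j) else (Wt_48_51 j)
def Wt_42_51 (j : ℕ) : List ℕ := bif Nat.blt j 46 then (Wt_42_46 j) else (Wt_46_51 j)
def Wt_34_51 (j : ℕ) : List ℕ := bif Nat.blt j 42 then (Wt_34_42 j) else (Wt_42_51 j)
def Wt_51_53 (j : ℕ) : List ℕ := bif Nat.blt j 52 then [nat_lit 63, nat_lit 5, nat_lit 63, nat_lit 5] else [nat_lit 63, nat_lit 63, nat_lit 63]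
def Wt_53_55 (j : ℕ) : List ℕ := bif Nat.blt j 54 then [nat_lit 63, nat_lit 3, nat_lit 63, nat_lit 3, nat_lit 63] else [nat_lit 63, nat_lit 1, nat_lit 63, nat_lit 1, nat_lit 63]
def Wt_51_55 (j : ℕ) : List ℕ := bif Nat.blt j 53 then (Wt_51_53 j) else (Wt_53_55 j)
def Wt_55_57 (j : ℕ) : List ℕ := bif Nat.blt j 56 then [nat_lit 63, nat_lit 4, nat_lit 63, nat_lit 4, nat_lit 63] else [nat_lit 63, nat_lit 6, nat_lit 63, nat_lit 6, nat_lit 63]
def Wt_58_60 (j : ℕ) : List ℕ := bif Nat.blt j 59 then [nat_lit 63, nat_lit 63, nat_lit 1, nat_lit 63, nat_lit 1] else [nat_lit 1, nat_lit 1, nat_lit 63]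
def Wt_57_60 (j : ℕ) : List ℕ := bif Nat.blt j 58 then [nat_lit 63, nat_lit 63, nat_lit 3, nat_lit 63, nat_lit 3] else (Wt_58_60 j)
def Wt_55_60 (j : ℕ) : List ℕ := bif Nat.blt j 57 then (Wt_55_57 j) else (Wt_57_60 j)
def Wt_51_60 (j : ℕ) : List ℕ := bif Nat.blt j 55 then (Wt_51_55 j) else (Wt_55_60 j)
def Wt_60_62 (j : ℕ) : List ℕ := bif Nat.blt j 61 then [nat_lit 63, nat_lit 0, nat_lit 63, nat_lit 0, nat_lit 63] else [nat_lit 2, nat_lit 2, nat_lit 63]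
def Wt_62_64 (j : ℕ) : List ℕ := bif Nat.blt j 63 then [nat_lit 63, nat_lit 63, nat_lit 0, nat_lit 63, nat_lit 0] else [nat_lit 0, nat_lit 0, nat_lit 63]
def Wt_60_64 (j : ℕ) : List ℕ := bif Nat.blt j 62 then (Wt_60_62 j) else (Wt_62_64 j)
def Wt_64_66 (j : ℕ) : List ℕ := bif Nat.blt j 65 then [nat_lit 63, nat_lit 5, nat_lit 63, nat_lit 5, nat_lit 63] else [nat_lit 4, nat_lit 4, nat_lit 63]
def Wt_67_69 (j : ℕ) : List ℕ := bif Nat.blt j 68 then [nat_lit 5, nat_lit 5, nat_lit 63] else [nat_lit 6, nat_lit 6, nat_lit 63]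
def Wt_66_69 (j : ℕ) : List ℕ := bif Nat.blt j 67 then [nat_lit 3, nat_lit 3, nat_lit 63] else (Wt_67_69 j)
def Wt_64_69 (j : ℕ) : List ℕ := bif Nat.blt j 66 then (Wt_64_66 j) else (Wt_66_69 j)
def Wt_60_69 (j : ℕ) : List ℕ := bif Nat.blt j 64 then (Wt_60_64 j) else (Wt_64_69 j)
def Wt_51_69 (j : ℕ) : List ℕ := bif Nat.blt j 60 then (Wt_51_60 j) else (Wt_60_69 j)
def Wt_34_69 (j : ℕ) : List ℕ := bif Nat.blt j 51 then (Wt_34_51 j) else (Wt_51_69 j)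
def Wt_0_69 (j : ℕ) : List ℕ := bif Nat.blt j 34 then (Wt_0_34 j) else (Wt_34_69 j)
def Wt (j : ℕ) : List ℕ := (Wt_0_69 j)
def W (j : ℕ) : List ℕ := bif Nat.blt j 69 then Wt j else []
theorem W_ge (j : ℕ) (h : 69 ≤ j) : W j = [] := by
  unfold W
  rw [blt_false_of_le h]
  rfl
def Hl : List ℕ := [nat_lit 0, nat_lit 1, nat_lit 2, nat_lit 3, nat_lit 4, nat_lit 5]
def isH (y : ℕ) : Bool := List.elem y Hl
def Rb : List (List ℕ) := [[nat_lit 0, nat_lit 0],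
  [nat_lit 1, nat_lit 1],
  [nat_lit 1, nat_lit 0, nat_lit 1, nat_lit 0, nat_lit 1, nat_lit 0],
  [nat_lit 2, nat_lit 2],
  [nat_lit 2, nat_lit 0, nat_lit 2, nat_lit 0],
  [nat_lit 2, nat_lit 1, nat_lit 2, nat_lit 1, nat_lit 2, nat_lit 1],
  [nat_lit 3, nat_lit 3],
  [nat_lit 3, nat_lit 0, nat_lit 3, nat_lit 0, nat_lit 3, nat_lit 0],
  [nat_lit 3, nat_lit 1, nat_lit 3, nat_lit 1],
  [nat_lit 3, nat_lit 2, nat_lit 3, nat_lit 2],
  [nat_lit 4, nat_lit 4],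
  [nat_lit 4, nat_lit 0, nat_lit 4, nat_lit 0],
  [nat_lit 4, nat_lit 1, nat_lit 4, nat_lit 1],
  [nat_lit 4, nat_lit 2, nat_lit 4, nat_lit 2],
  [nat_lit 4, nat_lit 3, nat_lit 4, nat_lit 3, nat_lit 4, nat_lit 3],
  [nat_lit 5, nat_lit 5],
  [nat_lit 5, nat_lit 0, nat_lit 5, nat_lit 0, nat_lit 5, nat_lit 0],
  [nat_lit 5, nat_lit 1, nat_lit 5, nat_lit 1],
  [nat_lit 5, nat_lit 2, nat_lit 5, nat_lit 2],
  [nat_lit 5, nat_lit 3, nat_lit 5, nat_lit 3],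
  [nat_lit 5, nat_lit 4, nat_lit 5, nat_lit 4],
  [nat_lit 6, nat_lit 6],
  [nat_lit 6, nat_lit 0, nat_lit 6, nat_lit 0],
  [nat_lit 6, nat_lit 1, nat_lit 6, nat_lit 1],
  [nat_lit 6, nat_lit 2, nat_lit 6, nat_lit 2],
  [nat_lit 6, nat_lit 3, nat_lit 6, nat_lit 3],
  [nat_lit 6, nat_lit 4, nat_lit 6, nat_lit 4],
  [nat_lit 6, nat_lit 5, nat_lit 6, nat_lit 5, nat_lit 6, nat_lit 5],
  [nat_lit 4, nat_lit 3, nat_lit 0, nat_lit 2, nat_lit 1, nat_lit 0, nat_lit 6, nat_lit 5, nat_lit 0, nat_lit 4, nat_lit 3, nat_lit 0, nat_lit 2, nat_lit 1, nat_lit 0, nat_lit 6, nat_lit 5, nat_lit 0, nat_lit 4, nat_lit 3, nat_lit 0, nat_lit 2, nat_lit 1, nat_lit 0, nat_lit 6, nat_lit 5, nat_lit 0, nat_lit 4, nat_lit 3, nat_lit 0, nat_lit 2, nat_lit 1, nat_lit 0, nat_lit 6, nat_lit 5, nat_lit 0, nat_lit 4, nat_lit 3, nat_lit 0, nat_lit 2, nat_lit 1, nat_lit 0, nat_lit 6, nat_lit 5, nat_lit 0, nat_lit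 4, nat_lit 3, nat_lit 0, nat_lit 2, nat_lit 1, nat_lit 0, nat_lit 6, nat_lit 5, nat_lit 0, nat_lit 4, nat_lit 3, nat_lit 0, nat_lit 2, nat_lit 1, nat_lit 0, nat_lit 6, nat_lit 5, nat_lit 0, nat_lit 4, nat_lit 3, nat_lit 0, nat_lit 2, nat_lit 1, nat_lit 0, nat_lit 6, nat_lit 5, nat_lit 0, nat_lit 4, nat_lit 3, nat_lit 0, nat_lit 2, nat_lit 1, nat_lit 0, nat_lit 6, nat_lit 5, nat_lit 0, nat_lit 4, nat_lit 3, nat_lit 0, nat_lit 2, nat_lit 1, nat_lit 0, nat_lit 6, nat_lit 5, nat_lit 0],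
  []]
def spT_0_2 (j : ℕ) : ℕ := bif Nat.blt j 1 then nat_lit 0x60000000000000002000000020000000c0000002a00000014000000020000000c0000003a0000001e000000140000002a0000000c000000060000000000000006000000020000e0380000003800002012000000360000201c000020100000200a00000020000000180000200e0000200400002034000020280000001c0000001a000000160000001000002030000020240000201a0000000a000000080000203200002026000000120000000e0000202e0000202200002018000000040000202c00002020000020160000200800002036000000280000002600000024000000220000003400000032000000300000002e0000002c else nat_lit 0x2a0000001e0000000c000000140000001e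
def spT (j : ℕ) : ℕ := (spT_0_2 j)
def sp (j : ℕ) : ℕ := Nat.land (Nat.shiftRight (spT (Nat.shiftRight j 6)) (Nat.mul (Nat.land j 63) 32)) 4294967295
theorem Eo_lt (r : ℕ) : Eo r < 18014398509481984 := land54_lt _
def cT_0_2 (j : ℕ) : ℕ := bif Nat.blt j 1 then nat_lit 0x7f00007e00007d00007c00007b00007a00007900007800007700007600007500007400007300007200007100007000006f00006e00006d00006c00006b00006a00006900006800006700006600006500006400006300006200006100006000005f00005e00005d00005c00005b00005a00005900005800005700005600005500005400005300005200005100005000004f00004e00004d00004c00004b00004a00004900004800004700004600004500004400004300004200004100004000003f00003e00003d00003c00003b00003a00003900003800003700003600003500003400003300003200003100003000002f00002e00002d00002c00002b00002a00002900002800002700002600002500002400002300002200002100002000001f00001e00001d00001c00001b00001a00001900001800001700001600001500001400001300001200001100001000000f00000e00000d00000c00000b00000a000009000008000007000006000005000004000003000002000001000000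 else nat_lit 0x16800016600015200014300014200014100014000013f00013e00013d00013c00013b00012500012400012100011c00011b00011a0001190001180001170001160001150001140001130001020001010000fd0000fc0000f90000f80000f70000f60000f30000f20000f10000f00000ef0000ee0000ed0000ec0000eb0000e10000e00000dc0000db0000da0000d60000d50000d40000d30000d20000d10000d00000cf0000ce0000cd0000cc0000cb0000ca0000c90000c80000c70000bd0000bc0000bb0000ba0000b90000b80000b70000b60000b50000b40000b30000b20000b10000b00000af0000ae0000ad0000ac0000ab0000aa0000a90000a80000a000009f00009e00009d00009c00009b00009a00009900009800009700009600009500009400009300009200009100009000008f00008e00008d00008c00008b000087000086000085000084000083000082000081000080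
def cT (j : ℕ) : ℕ := (cT_0_2 j)
noncomputable def cChunk (h : ℕ) : ℕ := Nat.rec (motive := fun _ => ℕ) (cT 0) (fun n _ => cT (Nat.succ n)) h
noncomputable def cF (i : ℕ) : ℕ := Nat.land (Nat.shiftRight (cChunk (Nat.shiftRight i 7)) (Nat.mul (Nat.land i 127) 24)) 16777215
theorem cF_lt (i : ℕ) : cF i < 16777216 := land24_lt _
theorem cF_zero : cF 0 = 0 := by decide +kernel
def nDef : ℕ := 811
def nEv : ℕ := 2699
def nW : ℕ := 69
def N : ℕ := 243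
def ys : List ℕ := [nat_lit 0, nat_lit 1, nat_lit 2, nat_lit 3, nat_lit 4, nat_lit 5, nat_lit 6]
def Js : List ℕ := [nat_lit 0, nat_lit 1, nat_lit 2, nat_lit 3, nat_lit 4, nat_lit 5, nat_lit 6]
def Jp : List ℕ := [nat_lit 0, nat_lit 1, nat_lit 2, nat_lit 3, nat_lit 4, nat_lit 5]
end Cfsg.Agent.Lib.ToddCox.O73C1
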